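/- The action of `O'N` on the cosets of `L₃(7):2`. -/
import Cfsg.Agent.SPOR.ONU.L37
import Cfsg.Agent.S1693

set_option autoImplicit false
set_option exponentiation.threshold 400000

namespace CL.ONU
open CL.CE CL.K CL.Net Subgroup Cfsg.Spor

variable {G : Type*} [Group G]

theorem rank_five (ε : G ≃* ON) {H : Subgroup G} (b : H.map ε.toMonoidHom = ON.H) :
    H.index = 122760 ∧ ∃ q₁ q₂ q₃ q₄ : G ⧸ H, (MulAction.orbit H q₁).ncard = 6384 ∧
      (MulAction.orbit H q₂).ncard = 5586 ∧ (MulAction.orbit H q₃).ncard = 58653 ∧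
      (MulAction.orbit H q₄).ncard = 52136 := by
  have c : ON.H.map ε.symm.toMonoidHom = H := by
    rw [← b, Subgroup.map_map]; simp
  have m := ON.model.map ε.symm
  rw [c] at m
  have l : Lift (ON.φ.comp ε.symm.symm.toMonoidHom) (fun a => ε.symm.toMonoidHom (ON.g a))
      ON.nets0 := fun a => (congrArg ON.φ (ε.apply_symm_apply _)).trans (ON.lift a)
  have d := (map_gen ε.symm.toMonoidHom ON.g ON.hs).symm.trans c
  obtain ⟨q₁, -, h₁⟩ := m.exists_orbit_ncard ON.valid0 l (by norm_num) ON.orb6384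
  obtain ⟨q₂, -, h₂⟩ := m.exists_orbit_ncard ON.valid0 l (by norm_num) ON.orb5586
  obtain ⟨q₃, -, h₃⟩ := m.exists_orbit_ncard ON.valid0 l (by norm_num) ON.orb58653
  obtain ⟨q₄, -, h₄⟩ := m.exists_orbit_ncard ON.valid0 l (by norm_num) ON.orb52136
  rw [d] at h₁ h₂ h₃ h₄
  exact ⟨m.index, q₁, q₂, q₃, q₄, h₁, h₂, h₃, h₄⟩

theorem exists_conj_H (ι : G ≃* ON) {H : Subgroup G} (N : Subgroup H) [N.Normal]
    (eN : N ≃* Matrix.ProjectiveSpecialLinearGroup (Fin 3) (ZMod 7)) :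
    ∃ ε : G ≃* ON, H.map ε.toMonoidHom ≤ ON.H := by
  let π : S3 →* N := eN.symm.toMonoidHom.comp (QuotientGroup.mk' _)
  have hπ : Function.Surjective π := eN.symm.surjective.comp (QuotientGroup.mk'_surjective _)
  let θ : S3 →* ON := ι.toMonoidHom.comp (H.subtype.comp (N.subtype.comp π))
  obtain ⟨α, p, hp, h⟩ := uf (θ := θ) fun h => by
    have a : π (tr 0 2) = 1 := Subtype.ext (Subtype.ext (ι.injective (h.trans (map_one ι).symm)))
    have b := (QuotientGroup.eq_one_iff _).1 (eN.symm.injective (a.trans (map_one _).symm))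
    exact absurd (mem_center_iff.1 b (tr 2 1)) (by decide +kernel)
  obtain ⟨g, hg⟩ := ON.model.trans p hp
  refine ⟨(ι.trans α).trans (MulAut.conj g⁻¹), ?_⟩
  rintro _ ⟨x, hx, rfl⟩
  have : ON.φ (α (ι x)) p = p := (h _ (ON.model.lt _ hp)).1 fun k => by
    obtain ⟨l, hl⟩ := hπ ⟨_, ‹N.Normal›.conj_mem' _ (π k).2 ⟨x, hx⟩⟩
    have b : θ k * ι x = ι x * θ l := by
      show ι (π k : H) * _ = _ * ι (π l : H)
      rw [hl, ← map_mul, ← map_mul]; congr 1; simp [mul_assoc]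
    rw [← Equiv.Perm.mul_apply, ← map_mul, ← map_mul, b, map_mul, map_mul, Equiv.Perm.mul_apply,
      (h p hp).2 rfl]
  refine (ON.model.stab _).2 ?_
  show ON.φ (g⁻¹ * α (ι x) * g⁻¹⁻¹) 0 = 0
  rw [inv_inv, map_mul, map_mul, Equiv.Perm.mul_apply, Equiv.Perm.mul_apply, hg, this, ← hg,
    map_inv, Equiv.Perm.inv_def, Equiv.symm_apply_apply]

theorem exists_map_H (ι : G ≃* ON) {H : Subgroup G} (N : Subgroup H) [N.Normal] (hN : N.index = 2)
    (eN : N ≃* Matrix.ProjectiveSpecialLinearGroup (Fin 3) (ZMod 7)) :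
    ∃ ε : G ≃* ON, H.map ε.toMonoidHom = ON.H :=
  let ⟨ε, a⟩ := exists_conj_H ι N eN
  ⟨ε, eq_of_le_of_card_ge a (by
    rw [ON.card_H, card_map_of_injective ε.injective, ← N.card_mul_index, hN,
      Nat.card_congr eN.toEquiv, Cfsg.Agent.S1693.card_PSL])⟩

end CL.ONU
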